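import Cfsg.Agent.L0.Mu.Fi23P2
import Cfsg.Agent.L0.Mu.Fi23P3
import Cfsg.Agent.L0.Mu.Fi23P5

/-! The Schur multiplier of Fi23 is trivial. -/

set_option autoImplicit false

namespace Cfsg.Agent.L0.Fi23G

theorem upper : UpperMult Cfsg.Spor.Fi23 (Multiplicative (ZMod 1)) := by
  haveI := card_le.1
  obtain ⟨A, ht⟩ := exists_act
  obtain ⟨hb, hc⟩ := Fi23Chn.ch ht card_le.2
  exact upper_cyclic (k2 := 0) (k3 := 0) rfl
    ((Fi23P2.pm hb ht hc).mono (by norm_num)) ((Fi23P3.pm hb ht hc).mono (by norm_num))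
    (pmult_rest hc [5] (by simpa using Fi23P5.pm hb ht hc) (by decide +kernel) (by decide +kernel))

end Cfsg.Agent.L0.Fi23G
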