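import Cfsg.Agent.L0.Fi23.ActT

/-! Generated checks. -/

set_option autoImplicit false
set_option maxRecDepth 100000

namespace Cfsg.Agent.L0.Fi23Act

theorem b0 : allR chk 9 0 = true := by decide +kernel
theorem b1 : allR chk 9 1 = true := by decide +kernel
theorem b2 : allR chk 9 2 = true := by decide +kernel
theorem b3 : allR chk 9 3 = true := by decide +kernel
theorem b4 : allR chk 9 4 = true := by decide +kernel
theorem b5 : allR chk 9 5 = true := by decide +kernel
theorem b6 : allR chk 9 6 = true := by decide +kernel
theorem b7 : allR chk 9 7 = true := by decide +kernel
theorem b8 : allR chk 9 8 = true := by decide +kernel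
theorem b9 : allR chk 9 9 = true := by decide +kernel
theorem b10 : allR chk 9 10 = true := by decide +kernel
theorem b11 : allR chk 9 11 = true := by decide +kernel
theorem b12 : allR chk 9 12 = true := by decide +kernel
theorem b13 : allR chk 9 13 = true := by decide +kernel
theorem b14 : allR chk 9 14 = true := by decide +kernel
theorem b15 : allR chk 9 15 = true := by decide +kernel
theorem b16 : allR chk 9 16 = true := by decide +kernel
theorem b17 : allR chk 9 17 = true := by decide +kernel
theorem b18 : allR chk 9 18 = true := by decide +kernel
theorem b19 : allR chk 9 19 = true := by decide +kernel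
theorem b20 : allR chk 9 20 = true := by decide +kernel
theorem b21 : allR chk 9 21 = true := by decide +kernel
theorem b22 : allR chk 9 22 = true := by decide +kernel
theorem b23 : allR chk 9 23 = true := by decide +kernel
theorem b24 : allR chk 9 24 = true := by decide +kernel
theorem b25 : allR chk 9 25 = true := by decide +kernel
theorem b26 : allR chk 9 26 = true := by decide +kernel
theorem b27 : allR chk 9 27 = true := by decide +kernel
theorem b28 : allR chk 9 28 = true := by decide +kernel
theorem b29 : allR chk 9 29 = true := by decide +kernel
theorem b30 : allR chk 9 30 = true := by decide +kernel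

end Cfsg.Agent.L0.Fi23Act
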