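import Cfsg.Agent.L0.Fi23.Tc1C0
import Cfsg.Agent.L0.Fi23.Tc1C1
import Cfsg.Agent.L0.Fi23.Tc1C2

/-! Generated coset table certificate. -/

set_option autoImplicit false
set_option maxRecDepth 100000

namespace Cfsg.Agent.L0.Fi23Tc1

noncomputable def T : CT := ⟨row, nat_lit 52741, nat_lit 31671, nat_lit 0xffff, nat_lit 0xff0000, nat_lit 24, nat_lit 0x7f, nat_lit 0, nat_lit 0xffff, nat_lit 16, nat_lit 0x1ff, nat_lit 0x7e000000, nat_lit 341, nat_lit 372, nat_lit 3, nat_lit 90, [], cols, erots, gens⟩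

theorem a50 : ∀ j < 50, allR chk 9 j = true := (forall_lt_succ' (forall_lt_succ' (forall_lt_succ' (forall_lt_succ' (forall_lt_succ' (forall_lt_succ' (forall_lt_succ' (forall_lt_succ' (forall_lt_succ' (forall_lt_succ' (forall_lt_succ' (forall_lt_succ' (forall_lt_succ' (forall_lt_succ' (forall_lt_succ' (forall_lt_succ' (forall_lt_succ' (forall_lt_succ' (forall_lt_succ' (forall_lt_succ' (forall_lt_succ' (forall_lt_succ' (forall_lt_succ' (forall_lt_succ' (forall_lt_succ' (forall_lt_succ' (forall_lt_succ' (forall_lt_succ' (forall_lt_succ' (forall_lt_succ' (forall_lt_succ' (forall_lt_succ' (forall_lt_succ' (forall_lt_succ' (forall_lt_succ' (forall_lt_succ' (forall_lt_succ' (forall_lt_succ' (forall_lt_succ' (forall_lt_succ' (forall_lt_succ' (forall_lt_succ' (forall_lt_succ' (forall_lt_succ' (forall_lt_succ' (forall_lt_succ' (forall_lt_succ' (forall_lt_succ' (forall_lt_succ' (forall_lt_succ'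 forall_lt_zero' b0) b1) b2) b3) b4) b5) b6) b7) b8) b9) b10) b11) b12) b13) b14) b15) b16) b17) b18) b19) b20) b21) b22) b23) b24) b25) b26) b27) b28) b29) b30) b31) b32) b33) b34) b35) b36) b37) b38) b39) b40) b41) b42) b43) b44) b45) b46) b47) b48) b49)
theorem a100 : ∀ j < 100, allR chk 9 j = true := (forall_lt_succ' (forall_lt_succ' (forall_lt_succ' (forall_lt_succ' (forall_lt_succ' (forall_lt_succ' (forall_lt_succ' (forall_lt_succ' (forall_lt_succ' (forall_lt_succ' (forall_lt_succ' (forall_lt_succ' (forall_lt_succ' (forall_lt_succ' (forall_lt_succ' (forall_lt_succ' (forall_lt_succ' (forall_lt_succ' (forall_lt_succ' (forall_lt_succ' (forall_lt_succ' (forall_lt_succ' (forall_lt_succ' (forall_lt_succ' (forall_lt_succ' (forall_lt_succ' (forall_lt_succ' (forall_lt_succ' (forall_lt_succ' (forall_lt_succ' (forall_lt_succ' (forall_lt_succ' (forall_lt_succ' (forall_lt_succ' (forall_lt_succ'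 (forall_lt_succ' (forall_lt_succ' (forall_lt_succ' (forall_lt_succ' (forall_lt_succ' (forall_lt_succ' (forall_lt_succ' (forall_lt_succ' (forall_lt_succ' (forall_lt_succ' (forall_lt_succ' (forall_lt_succ' (forall_lt_succ' (forall_lt_succ' (forall_lt_succ' a50 b50) b51) b52) b53) b54) b55) b56) b57) b58) b59) b60) b61) b62) b63) b64) b65) b66) b67) b68) b69) b70) b71) b72) b73) b74) b75) b76) b77) b78) b79) b80) b81) b82) b83) b84) b85) b86) b87) b88) b89) b90) b91) b92) b93) b94) b95) b96) b97) b98) b99)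
theorem all : ∀ c < 52741, chk c = true := fun c hc =>
  allR_glue (d := 9) (n := 104) (forall_lt_succ' (forall_lt_succ' (forall_lt_succ' (forall_lt_succ' a100 b100) b101) b102) b103) c (lt_of_lt_of_le hc (by norm_num))

/-- the relators used -/
def R : List (List ℕ) := [[nat_lit 0, nat_lit 0],
  [nat_lit 1, nat_lit 1],
  [nat_lit 2, nat_lit 2],
  [nat_lit 3, nat_lit 3],
  [nat_lit 4, nat_lit 4],
  [nat_lit 5, nat_lit 5],
  [nat_lit 6, nat_lit 6],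
  [nat_lit 7, nat_lit 7],
  [nat_lit 8, nat_lit 8],
  [nat_lit 9, nat_lit 9],
  [nat_lit 0, nat_lit 1, nat_lit 0, nat_lit 1, nat_lit 0, nat_lit 1],
  [nat_lit 0, nat_lit 2, nat_lit 0, nat_lit 2],
  [nat_lit 0, nat_lit 3, nat_lit 0, nat_lit 3],
  [nat_lit 0, nat_lit 4, nat_lit 0, nat_lit 4],
  [nat_lit 0, nat_lit 5, nat_lit 0, nat_lit 5],
  [nat_lit 0, nat_lit 6, nat_lit 0, nat_lit 6],
  [nat_lit 0, nat_lit 7, nat_lit 0, nat_lit 7],
  [nat_lit 0, nat_lit 8, nat_lit 0, nat_lit 8],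
  [nat_lit 0, nat_lit 9, nat_lit 0, nat_lit 9],
  [nat_lit 1, nat_lit 2, nat_lit 1, nat_lit 2, nat_lit 1, nat_lit 2],
  [nat_lit 1, nat_lit 3, nat_lit 1, nat_lit 3],
  [nat_lit 1, nat_lit 4, nat_lit 1, nat_lit 4],
  [nat_lit 1, nat_lit 5, nat_lit 1, nat_lit 5],
  [nat_lit 1, nat_lit 6, nat_lit 1, nat_lit 6],
  [nat_lit 1, nat_lit 7, nat_lit 1, nat_lit 7],
  [nat_lit 1, nat_lit 8, nat_lit 1, nat_lit 8],
  [nat_lit 1, nat_lit 9, nat_lit 1, nat_lit 9],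
  [nat_lit 2, nat_lit 3, nat_lit 2, nat_lit 3, nat_lit 2, nat_lit 3],
  [nat_lit 2, nat_lit 4, nat_lit 2, nat_lit 4],
  [nat_lit 2, nat_lit 5, nat_lit 2, nat_lit 5],
  [nat_lit 2, nat_lit 6, nat_lit 2, nat_lit 6],
  [nat_lit 2, nat_lit 7, nat_lit 2, nat_lit 7],
  [nat_lit 2, nat_lit 8, nat_lit 2, nat_lit 8],
  [nat_lit 2, nat_lit 9, nat_lit 2, nat_lit 9],
  [nat_lit 3, nat_lit 4, nat_lit 3, nat_lit 4, nat_lit 3, nat_lit 4],
  [nat_lit 3, nat_lit 5, nat_lit 3, nat_lit 5],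
  [nat_lit 3, nat_lit 6, nat_lit 3, nat_lit 6],
  [nat_lit 3, nat_lit 7, nat_lit 3, nat_lit 7],
  [nat_lit 3, nat_lit 8, nat_lit 3, nat_lit 8, nat_lit 3, nat_lit 8],
  [nat_lit 3, nat_lit 9, nat_lit 3, nat_lit 9],
  [nat_lit 4, nat_lit 5, nat_lit 4, nat_lit 5, nat_lit 4, nat_lit 5],
  [nat_lit 4, nat_lit 6, nat_lit 4, nat_lit 6],
  [nat_lit 4, nat_lit 7, nat_lit 4, nat_lit 7],
  [nat_lit 4, nat_lit 8, nat_lit 4, nat_lit 8],
  [nat_lit 4, nat_lit 9, nat_lit 4, nat_lit 9],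
  [nat_lit 5, nat_lit 6, nat_lit 5, nat_lit 6, nat_lit 5, nat_lit 6],
  [nat_lit 5, nat_lit 7, nat_lit 5, nat_lit 7],
  [nat_lit 5, nat_lit 8, nat_lit 5, nat_lit 8],
  [nat_lit 5, nat_lit 9, nat_lit 5, nat_lit 9],
  [nat_lit 6, nat_lit 7, nat_lit 6, nat_lit 7, nat_lit 6, nat_lit 7],
  [nat_lit 6, nat_lit 8, nat_lit 6, nat_lit 8],
  [nat_lit 6, nat_lit 9, nat_lit 6, nat_lit 9],
  [nat_lit 7, nat_lit 8, nat_lit 7, nat_lit 8],
  [nat_lit 7, nat_lit 9, nat_lit 7, nat_lit 9],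
  [nat_lit 8, nat_lit 9, nat_lit 8, nat_lit 9, nat_lit 8, nat_lit 9],
  [nat_lit 3, nat_lit 2, nat_lit 1, nat_lit 3, nat_lit 4, nat_lit 5, nat_lit 3, nat_lit 8, nat_lit 9, nat_lit 3, nat_lit 2, nat_lit 1, nat_lit 3, nat_lit 4, nat_lit 5, nat_lit 3, nat_lit 8, nat_lit 9, nat_lit 3, nat_lit 2, nat_lit 1, nat_lit 3, nat_lit 4, nat_lit 5, nat_lit 3, nat_lit 8, nat_lit 9, nat_lit 3, nat_lit 2, nat_lit 1, nat_lit 3, nat_lit 4, nat_lit 5, nat_lit 3, nat_lit 8, nat_lit 9, nat_lit 3, nat_lit 2, nat_lit 1, nat_lit 3, nat_lit 4, nat_lit 5, nat_lit 3, nat_lit 8, nat_lit 9, nat_lit 3, nat_lit 2, nat_lit 1, nat_lit 3, nat_lit 4, nat_lit 5, nat_lit 3, nat_lit 8, nat_lit 9, nat_lit 3, nat_lit 2, nat_lit 1, nat_lit 3, nat_lit 4, nat_lit 5, nat_lit 3, nat_lit 8, nat_lit 9, nat_lit 3, nat_lit 2, nat_lit 1, nat_lit 3, nat_lit 4, nat_lit 5, nat_lit 3, nat_lit 8, nat_lit 9, nat_lit 3, nat_lit 2,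 nat_lit 1, nat_lit 3, nat_lit 4, nat_lit 5, nat_lit 3, nat_lit 8, nat_lit 9, nat_lit 3, nat_lit 2, nat_lit 1, nat_lit 3, nat_lit 4, nat_lit 5, nat_lit 3, nat_lit 8, nat_lit 9],
  [nat_lit 0, nat_lit 1, nat_lit 2, nat_lit 3, nat_lit 4, nat_lit 5, nat_lit 8, nat_lit 0, nat_lit 1, nat_lit 2, nat_lit 3, nat_lit 4, nat_lit 5, nat_lit 8, nat_lit 0, nat_lit 1, nat_lit 2, nat_lit 3, nat_lit 4, nat_lit 5, nat_lit 8, nat_lit 0, nat_lit 1, nat_lit 2, nat_lit 3, nat_lit 4, nat_lit 5, nat_lit 8, nat_lit 0, nat_lit 1, nat_lit 2, nat_lit 3, nat_lit 4, nat_lit 5, nat_lit 8, nat_lit 0, nat_lit 1, nat_lit 2, nat_lit 3, nat_lit 4, nat_lit 5, nat_lit 8, nat_lit 0, nat_lit 1, nat_lit 2, nat_lit 3, nat_lit 4, nat_lit 5, nat_lit 8, nat_lit 0, nat_lit 1, nat_lit 2, nat_lit 3, nat_lit 4, nat_lit 5, nat_lit 8, nat_lit 0, nat_lit 1, nat_lit 2, nat_lit 3, nat_lit 4, nat_lit 5, nat_lit 8]]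

theorem cert : Cert T (R.map fun r => (r, 0)) ([0, 1, 2, 3, 4, 5, 6, 8, 9].map fun y => (y, 0)) 31 31 [0, 1, 2, 3, 4, 5, 6, 7, 8, 9] :=
  ⟨by decide +kernel, ⟨[[(0, 0), (17, 0), (18, 0), (12, 0), (13, 0), (11, 0), (14, 0), (15, 0), (16, 0), (10, 0), (56, 0)], [(1, 0), (25, 0), (26, 0), (20, 0), (21, 0), (22, 0), (23, 0), (24, 0), (10, 1), (19, 0), (56, 1), (55, 2)], [(2, 0), (11, 1), (32, 0), (33, 0), (28, 0), (29, 0), (30, 0), (31, 0), (19, 1), (27, 0), (55, 1), (56, 2)], [(3, 0), (12, 1), (20, 1), (39, 0), (35, 0), (36, 0), (37, 0), (27, 1), (34, 0), (38, 0), (55, 6), (56, 3), (55, 3), (55, 0)], [(4, 0), (13, 1), (21, 1), (28, 1), (43, 0), (44, 0), (42, 0), (41, 0), (34, 1), (40, 0), (55, 4), (56, 4)], [(5, 0), (22, 1), (14, 1), (29, 1), (35, 1), (47, 0), (48, 0), (46, 0), (40, 1), (45, 0), (55, 5), (56, 5)], [(6, 0), (15, 1), (23, 1), (30, 1), (36, 1), (41, 1), (50, 0),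 (51, 0), (49, 0), (45, 1)], [(7, 0), (16, 1), (24, 1), (31, 1), (37, 1), (42, 1), (46, 1), (52, 0), (53, 0), (49, 1)], [(8, 0), (17, 1), (25, 1), (32, 1), (43, 1), (47, 1), (50, 1), (52, 1), (38, 1), (54, 0), (56, 6), (55, 7)], [(9, 0), (18, 1), (26, 1), (33, 1), (39, 1), (44, 1), (48, 1), (53, 1), (51, 1), (54, 1), (55, 8)]], [(9, 0), (8, 0), (3, 0), (4, 0), (6, 0), (7, 0), (5, 0), (2, 0), (1, 0), (0, 0), (27, 1), (56, 2), (55, 4), (56, 3), (40, 1), (56, 5), (56, 0), (56, 1), (27, 0), (34, 1), (29, 1), (55, 5), (38, 1), (55, 7), (12, 0), (13, 0), (15, 0), (20, 0), (10, 1), (55, 2), (20, 1), (55, 6), (40, 0), (56, 4), (30, 1), (47, 1), (56, 6)], by decide +kernel⟩, by decide +kernel, Or.inr all⟩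

theorem bound {Γ : Type*} [Group Γ] {x : ℕ → Γ} (hR : ∀ r ∈ R, ev x r = 1) {n : ℕ}
    (h : CardLe x [0, 1, 2, 3, 4, 5, 6, 8, 9] n) : CardLe x [0, 1, 2, 3, 4, 5, 6, 7, 8, 9] (31671 * n) :=
  cert.cardLe rfl hR h

end Cfsg.Agent.L0.Fi23Tc1
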