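import Cfsg.Agent.L0.CosetChain

/-! Generated coset table certificate. -/

set_option autoImplicit false
set_option maxRecDepth 100000

namespace Cfsg.Agent.L0.Fi23Tc5

noncomputable def t0 : BT := .node (.node (.leaf (nat_lit 0x425000000469a4600a6a88a80002b910000024000001097a9e29ea9f29c000a9c4000424000000ca6468e866868860002390c00002000000001d092a16216a140008843000006000000a84005423c6466400019b0800218c00000218e18c01108b90c000454100064200000064264264200342100008f000008040000008048048048040080000000)) (.leaf (nat_lit 0x4360000009789980196579580006b9540010d0000001d5ddddd5d1e23540018e53000018000000956976d96434f360006154c0010cc0000034d6d57cd5cd53dc0016e5200001700000073475443201669300059b44000054000002c4f4cd0c744d2d000146d0000732000000712430014972a510005213c0024440000023c50b404e1391c8001284c))) (.node (.leaf (nat_lit 0x71000000070f012730b5042d00048f30001bbc0000014c1bbdbbfbbd0b000103cb000aee000000ece42baee471b0e000421280023b40000023300464350ac040001054a0008cc0000004ed8ccccc42a00f0003952400332c000002a280390a4035bac000e6c8000eaa0000004abcaa42800c6ca00031b1c00109c000003122b2402db26324000ce46))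 (.leaf (nat_lit 0x37ec0000010ebeee76eeef6ec00209d9000bda00000001b439bba99ab9a0007a160003ee4000002e640690e35e5de4001c6d7)))

noncomputable def tree : BT := t0

noncomputable def row : ℕ → ℕ := rowOf tree (nat_lit 3) (nat_lit 7) (nat_lit 138) (nat_lit 0x3ffffffffffffffffffffffffffffffffff)

noncomputable def cols : List Col := [⟨nat_lit 30, nat_lit 0, [([nat_lit 30], nat_lit 0), ([nat_lit 54, nat_lit 30, nat_lit 54], nat_lit 0), ([nat_lit 114, nat_lit 30, nat_lit 114], nat_lit 0), ([nat_lit 66, nat_lit 30, nat_lit 66], nat_lit 0), ([nat_lit 78, nat_lit 30, nat_lit 78], nat_lit 0), ([nat_lit 42, nat_lit 30, nat_lit 42, nat_lit 30, nat_lit 42], nat_lit 0)]⟩,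
  ⟨nat_lit 42, nat_lit 1, [([nat_lit 42], nat_lit 0), ([nat_lit 114, nat_lit 42, nat_lit 114], nat_lit 0), ([nat_lit 66, nat_lit 42, nat_lit 66], nat_lit 0), ([nat_lit 78, nat_lit 42, nat_lit 78], nat_lit 0), ([nat_lit 54, nat_lit 42, nat_lit 54, nat_lit 42, nat_lit 54], nat_lit 0), ([nat_lit 30, nat_lit 42, nat_lit 30, nat_lit 42, nat_lit 30], nat_lit 0)]⟩,
  ⟨nat_lit 54, nat_lit 1, [([nat_lit 54], nat_lit 0), ([nat_lit 30, nat_lit 54, nat_lit 30], nat_lit 0), ([nat_lit 78, nat_lit 54, nat_lit 78], nat_lit 0), ([nat_lit 66, nat_lit 54, nat_lit 66, nat_lit 54, nat_lit 66], nat_lit 0), ([nat_lit 42, nat_lit 54, nat_lit 42, nat_lit 54, nat_lit 42], nat_lit 0), ([nat_lit 114, nat_lit 54, nat_lit 114, nat_lit 54, nat_lit 114], nat_lit 0)]⟩,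
  ⟨nat_lit 66, nat_lit 1, [([nat_lit 66], nat_lit 0), ([nat_lit 30, nat_lit 66, nat_lit 30], nat_lit 0), ([nat_lit 42, nat_lit 66, nat_lit 42], nat_lit 0), ([nat_lit 114, nat_lit 66, nat_lit 114], nat_lit 0), ([nat_lit 54, nat_lit 66, nat_lit 54, nat_lit 66, nat_lit 54], nat_lit 0), ([nat_lit 78, nat_lit 66, nat_lit 78, nat_lit 66, nat_lit 78], nat_lit 0)]⟩,
  ⟨nat_lit 78, nat_lit 1, [([nat_lit 78], nat_lit 0), ([nat_lit 30, nat_lit 78, nat_lit 30], nat_lit 0), ([nat_lit 42, nat_lit 78, nat_lit 42], nat_lit 0), ([nat_lit 54, nat_lit 78, nat_lit 54], nat_lit 0), ([nat_lit 114, nat_lit 78, nat_lit 114], nat_lit 0), ([nat_lit 66, nat_lit 78, nat_lit 66, nat_lit 78, nat_lit 66], nat_lit 0)]⟩,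
  ⟨nat_lit 114, nat_lit 1, [([nat_lit 114], nat_lit 0), ([nat_lit 30, nat_lit 114, nat_lit 30], nat_lit 0), ([nat_lit 42, nat_lit 114, nat_lit 42], nat_lit 0), ([nat_lit 66, nat_lit 114, nat_lit 66], nat_lit 0), ([nat_lit 78, nat_lit 114, nat_lit 78], nat_lit 0), ([nat_lit 54, nat_lit 114, nat_lit 54, nat_lit 114, nat_lit 54], nat_lit 0)]⟩]

noncomputable def erots : List (List ℕ × ℕ) := []

noncomputable def gens : List ℕ := [nat_lit 30, nat_lit 42, nat_lit 54, nat_lit 66, nat_lit 78, nat_lit 114]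

noncomputable def chk : ℕ → Bool := chkRow0 row (nat_lit 27) (nat_lit 0x1f) (nat_lit 0x1e0) (nat_lit 9) (nat_lit 0x7) (nat_lit 0) (nat_lit 0x1f) (nat_lit 5) (nat_lit 0xff) (nat_lit 0x3e000) [] cols gens

theorem b0 : allR chk 5 0 = true := by decide +kernel

noncomputable def T : CT := ⟨row, nat_lit 27, nat_lit 27, nat_lit 0x1f, nat_lit 0x1e0, nat_lit 9, nat_lit 0x7, nat_lit 0, nat_lit 0x1f, nat_lit 5, nat_lit 0xff, nat_lit 0x3e000, nat_lit 138, nat_lit 138, nat_lit 0, nat_lit 6, [], cols, erots, gens⟩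

theorem all : ∀ c < 27, chk c = true := fun c hc =>
  allR_glue (d := 5) (n := 1) (forall_lt_succ' forall_lt_zero' b0) c (lt_of_lt_of_le hc (by norm_num))

/-- the relators used -/
def R : List (List ℕ) := [[nat_lit 1, nat_lit 1],
  [nat_lit 2, nat_lit 2],
  [nat_lit 3, nat_lit 3],
  [nat_lit 4, nat_lit 4],
  [nat_lit 5, nat_lit 5],
  [nat_lit 8, nat_lit 8],
  [nat_lit 1, nat_lit 2, nat_lit 1, nat_lit 2, nat_lit 1, nat_lit 2],
  [nat_lit 1, nat_lit 3, nat_lit 1, nat_lit 3],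
  [nat_lit 1, nat_lit 4, nat_lit 1, nat_lit 4],
  [nat_lit 1, nat_lit 5, nat_lit 1, nat_lit 5],
  [nat_lit 1, nat_lit 8, nat_lit 1, nat_lit 8],
  [nat_lit 2, nat_lit 3, nat_lit 2, nat_lit 3, nat_lit 2, nat_lit 3],
  [nat_lit 2, nat_lit 4, nat_lit 2, nat_lit 4],
  [nat_lit 2, nat_lit 5, nat_lit 2, nat_lit 5],
  [nat_lit 2, nat_lit 8, nat_lit 2, nat_lit 8],
  [nat_lit 3, nat_lit 4, nat_lit 3, nat_lit 4, nat_lit 3, nat_lit 4],
  [nat_lit 3, nat_lit 5, nat_lit 3, nat_lit 5],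
  [nat_lit 3, nat_lit 8, nat_lit 3, nat_lit 8, nat_lit 3, nat_lit 8],
  [nat_lit 4, nat_lit 5, nat_lit 4, nat_lit 5, nat_lit 4, nat_lit 5],
  [nat_lit 4, nat_lit 8, nat_lit 4, nat_lit 8],
  [nat_lit 5, nat_lit 8, nat_lit 5, nat_lit 8]]

theorem cert : Cert T (R.map fun r => (r, 0)) ([2, 3, 4, 5, 8].map fun y => (y, 0)) 18 12 [1, 2, 3, 4, 5, 8] :=
  ⟨by decide +kernel, ⟨[[(0, 0), (7, 0), (10, 0), (8, 0), (9, 0), (6, 0)], [(1, 0), (14, 0), (12, 0), (13, 0), (11, 0), (6, 1)], [(2, 0), (7, 1), (16, 0), (15, 0), (11, 1), (17, 0)], [(3, 0), (8, 1), (12, 1), (19, 0), (15, 1), (18, 0)], [(4, 0), (9, 1), (13, 1), (16, 1), (20, 0), (18, 1)], [(5, 0), (10, 1), (14, 1), (19, 1), (20, 1), (17, 1)]], [], by decide +kernel⟩, by decide +kernel, Or.inl ⟨rfl, all⟩⟩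

theorem bound {Γ : Type*} [Group Γ] {x : ℕ → Γ} (hR : ∀ r ∈ R, ev x r = 1) {n : ℕ}
    (h : CardLe x [2, 3, 4, 5, 8] n) : CardLe x [1, 2, 3, 4, 5, 8] (27 * n) :=
  cert.cardLe rfl hR h

end Cfsg.Agent.L0.Fi23Tc5
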