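import Cfsg.Agent.L0.CosetChain

/-! Generated coset table certificate. -/

set_option autoImplicit false
set_option maxRecDepth 100000

namespace Cfsg.Agent.L0.Fi23Tc6

noncomputable def t0 : BT := .node (.leaf (nat_lit 0xb00000000aa88426c880000005352800643800000212e43b43a5480000022690001a1800000002509002211400000110460014ca00000000e8474ca8cc00000068220006640000008840068644230000003291000421800000531802a1100200000011a8400108400000190990800d9080000005c400000040000004024024024020000000000)) (.leaf (nat_lit 0x73000000091091091042f000000a297000487800000577d77a1700800000049ab40010b0000001b3993403dbb80000021c56000854000000c968dcd9ad9a000000ee2900000e000000cac42aaec8cc0000007414800214000000236b55e55b558000003389c0000340000010a0031926aa8000001934e000d9200000084d1928d550e000000a9a5))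

noncomputable def tree : BT := t0

noncomputable def row : ℕ → ℕ := rowOf tree (nat_lit 3) (nat_lit 7) (nat_lit 137) (nat_lit 0x1ffffffffffffffffffffffffffffffffff)

noncomputable def cols : List Col := [⟨nat_lit 41, nat_lit 1, [([nat_lit 41], nat_lit 0), ([nat_lit 113, nat_lit 41, nat_lit 113], nat_lit 0), ([nat_lit 65, nat_lit 41, nat_lit 65], nat_lit 0), ([nat_lit 77, nat_lit 41, nat_lit 77], nat_lit 0), ([nat_lit 53, nat_lit 41, nat_lit 53, nat_lit 41, nat_lit 53], nat_lit 0)]⟩,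
  ⟨nat_lit 53, nat_lit 1, [([nat_lit 53], nat_lit 0), ([nat_lit 77, nat_lit 53, nat_lit 77], nat_lit 0), ([nat_lit 41, nat_lit 53, nat_lit 41, nat_lit 53, nat_lit 41], nat_lit 0), ([nat_lit 65, nat_lit 53, nat_lit 65, nat_lit 53, nat_lit 65], nat_lit 0), ([nat_lit 113, nat_lit 53, nat_lit 113, nat_lit 53, nat_lit 113], nat_lit 0)]⟩,
  ⟨nat_lit 65, nat_lit 1, [([nat_lit 65], nat_lit 0), ([nat_lit 113, nat_lit 65, nat_lit 113], nat_lit 0), ([nat_lit 41, nat_lit 65, nat_lit 41], nat_lit 0), ([nat_lit 53, nat_lit 65, nat_lit 53, nat_lit 65, nat_lit 53], nat_lit 0), ([nat_lit 77, nat_lit 65, nat_lit 77, nat_lit 65, nat_lit 77], nat_lit 0)]⟩,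
  ⟨nat_lit 77, nat_lit 1, [([nat_lit 77], nat_lit 0), ([nat_lit 113, nat_lit 77, nat_lit 113], nat_lit 0), ([nat_lit 41, nat_lit 77, nat_lit 41], nat_lit 0), ([nat_lit 53, nat_lit 77, nat_lit 53], nat_lit 0), ([nat_lit 65, nat_lit 77, nat_lit 65, nat_lit 77, nat_lit 65], nat_lit 0)]⟩,
  ⟨nat_lit 113, nat_lit 0, [([nat_lit 113], nat_lit 0), ([nat_lit 41, nat_lit 113, nat_lit 41], nat_lit 0), ([nat_lit 53, nat_lit 113, nat_lit 53, nat_lit 113, nat_lit 53], nat_lit 0), ([nat_lit 65, nat_lit 113, nat_lit 65], nat_lit 0), ([nat_lit 77, nat_lit 113, nat_lit 77], nat_lit 0)]⟩]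

noncomputable def erots : List (List ℕ × ℕ) := []

noncomputable def gens : List ℕ := [nat_lit 41, nat_lit 53, nat_lit 65, nat_lit 77, nat_lit 113]

noncomputable def chk : ℕ → Bool := chkRow0 row (nat_lit 16) (nat_lit 0x1f) (nat_lit 0x1e0) (nat_lit 9) (nat_lit 0x7) (nat_lit 0) (nat_lit 0x1f) (nat_lit 5) (nat_lit 0xff) (nat_lit 0x1e000) [] cols gens

theorem b0 : allR chk 4 0 = true := by decide +kernel

noncomputable def T : CT := ⟨row, nat_lit 16, nat_lit 16, nat_lit 0x1f, nat_lit 0x1e0, nat_lit 9, nat_lit 0x7, nat_lit 0, nat_lit 0x1f, nat_lit 5, nat_lit 0xff, nat_lit 0x1e000, nat_lit 137, nat_lit 137, nat_lit 0, nat_lit 6, [], cols, erots, gens⟩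

theorem all : ∀ c < 16, chk c = true := fun c hc =>
  allR_glue (d := 4) (n := 1) (forall_lt_succ' forall_lt_zero' b0) c (lt_of_lt_of_le hc (by norm_num))

/-- the relators used -/
def R : List (List ℕ) := [[nat_lit 2, nat_lit 2],
  [nat_lit 3, nat_lit 3],
  [nat_lit 4, nat_lit 4],
  [nat_lit 5, nat_lit 5],
  [nat_lit 8, nat_lit 8],
  [nat_lit 2, nat_lit 3, nat_lit 2, nat_lit 3, nat_lit 2, nat_lit 3],
  [nat_lit 2, nat_lit 4, nat_lit 2, nat_lit 4],
  [nat_lit 2, nat_lit 5, nat_lit 2, nat_lit 5],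
  [nat_lit 2, nat_lit 8, nat_lit 2, nat_lit 8],
  [nat_lit 3, nat_lit 4, nat_lit 3, nat_lit 4, nat_lit 3, nat_lit 4],
  [nat_lit 3, nat_lit 5, nat_lit 3, nat_lit 5],
  [nat_lit 3, nat_lit 8, nat_lit 3, nat_lit 8, nat_lit 3, nat_lit 8],
  [nat_lit 4, nat_lit 5, nat_lit 4, nat_lit 5, nat_lit 4, nat_lit 5],
  [nat_lit 4, nat_lit 8, nat_lit 4, nat_lit 8],
  [nat_lit 5, nat_lit 8, nat_lit 5, nat_lit 8]]

theorem cert : Cert T (R.map fun r => (r, 0)) ([2, 3, 4, 5].map fun y => (y, 0)) 17 12 [2, 3, 4, 5, 8] :=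
  ⟨by decide +kernel, ⟨[[(0, 0), (8, 0), (6, 0), (7, 0), (5, 0)], [(1, 0), (10, 0), (5, 1), (9, 0), (11, 0)], [(2, 0), (13, 0), (6, 1), (9, 1), (12, 0)], [(3, 0), (14, 0), (7, 1), (10, 1), (12, 1)], [(4, 0), (8, 1), (11, 1), (13, 1), (14, 1)]], [], by decide +kernel⟩, by decide +kernel, Or.inl ⟨rfl, all⟩⟩

theorem bound {Γ : Type*} [Group Γ] {x : ℕ → Γ} (hR : ∀ r ∈ R, ev x r = 1) {n : ℕ}
    (h : CardLe x [2, 3, 4, 5] n) : CardLe x [2, 3, 4, 5, 8] (16 * n) :=
  cert.cardLe rfl hR h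

end Cfsg.Agent.L0.Fi23Tc6
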