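import Cfsg.Agent.L0.Cox
import Cfsg.Prelude.Def_Spor_Fi23
import Cfsg.Agent.L0.Fi23.Act
import Cfsg.Agent.L0.Fi23.Tc10
import Cfsg.Agent.L0.Fi23.Tc9
import Cfsg.Agent.L0.Fi23.Tc8
import Cfsg.Agent.L0.Fi23.Tc7
import Cfsg.Agent.L0.Fi23.Tc6
import Cfsg.Agent.L0.Fi23.Tc5
import Cfsg.Agent.L0.Fi23.Tc4
import Cfsg.Agent.L0.Fi23.Tc3
import Cfsg.Agent.L0.Fi23.Tc2
import Cfsg.Agent.L0.Fi23.Tc1

/-! The presented group Fi23: order bound and permutation action. -/

set_option autoImplicit false
set_option maxRecDepth 100000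

namespace Cfsg.Agent.L0.Fi23G

open Cfsg.Spor

/-- letter of a generator -/
def idx : Fi23.Gen → ℕ
  | .a => 0
  | .b => 1
  | .c => 2
  | .d => 3
  | .e => 4
  | .f => 5
  | .g => 6
  | .j => 7
  | .h => 8
  | .i => 9

/-- letter of the inverse of a generator -/
def iv : Fi23.Gen → ℕ
  | .a => 0
  | .b => 1
  | .c => 2
  | .d => 3
  | .e => 4
  | .f => 5
  | .g => 6
  | .j => 7
  | .h => 8
  | .i => 9

/-- all generators -/
def all : List Fi23.Gen := [.a, .b, .c, .d, .e, .f, .g, .j, .h, .i]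

/-- the letters -/
def x (i : ℕ) : Fi23 := ([PresentedGroup.of .a, PresentedGroup.of .b, PresentedGroup.of .c, PresentedGroup.of .d, PresentedGroup.of .e, PresentedGroup.of .f, PresentedGroup.of .g, PresentedGroup.of .j, PresentedGroup.of .h, PresentedGroup.of .i] : List Fi23).getD i 1

theorem hall : ∀ a, a ∈ all := by intro a; cases a <;> decide

theorem hx : ∀ a, x (idx a) = PresentedGroup.of a := by intro a; cases a <;> rfl

theorem hiv : ∀ a, x (iv a) = (PresentedGroup.of a)⁻¹ := by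
  intro a; cases a <;> first | exact cox_inv (by decide) | rfl

/-- the defining relators -/
def R0 : List (List ℕ) := coxR idx iv Fi23.edges Fi23.extra all

theorem rel0 : ∀ r ∈ R0, ev x r = 1 := cox_rel hx hiv

theorem gen_top : genL x [0, 1, 2, 3, 4, 5, 6, 7, 8, 9] = ⊤ := cox_genL hx (by intro a; cases a <;> decide)

theorem card_le : Finite Fi23 ∧ Nat.card Fi23 ≤ 4089470473293004800 := by
  have := (Fi23Tc1.bound (rel_sub (R := R0) rel0 (by decide +kernel))
    (Fi23Tc2.bound (rel_sub (R := R0) rel0 (by decide +kernel))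
    (Fi23Tc3.bound (rel_sub (R := R0) rel0 (by decide +kernel))
    (Fi23Tc4.bound (rel_sub (R := R0) rel0 (by decide +kernel))
    (Fi23Tc5.bound (rel_sub (R := R0) rel0 (by decide +kernel))
    (Fi23Tc6.bound (rel_sub (R := R0) rel0 (by decide +kernel))
    (Fi23Tc7.bound (rel_sub (R := R0) rel0 (by decide +kernel))
    (Fi23Tc8.bound (rel_sub (R := R0) rel0 (by decide +kernel))
    (Fi23Tc9.bound (rel_sub (R := R0) rel0 (by decide +kernel))
    (Fi23Tc10.bound (rel_sub (R := R0) rel0 (by decide +kernel))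
    (cardLe_nil x))))))))))).top gen_top
  simpa using this

theorem exists_act : ∃ A : RAct Fi23 31671, A.Tab x 10 Fi23Act.T :=
  exists_ract_cox (R := Fi23Act.R) hall hx hiv (by decide +kernel) (by decide +kernel)
    (by decide +kernel) (by decide +kernel) le_rfl Fi23Act.all

end Cfsg.Agent.L0.Fi23G
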