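import Cfsg.Agent.L0.CosetChain
import Cfsg.Agent.L0.Fi23.Tc1D0
import Cfsg.Agent.L0.Fi23.Tc1D1
import Cfsg.Agent.L0.Fi23.Tc1D2

/-! Generated coset table certificate. -/

set_option autoImplicit false
set_option maxRecDepth 100000

namespace Cfsg.Agent.L0.Fi23Tc1

noncomputable def tree : BT := (.node (.node (.node (.node (.node (.node t0 t32) (.node t16 t48)) (.node (.node t8 t40) (.node t24 t56))) (.node (.node (.node t4 t36) (.node t20 t52)) (.node (.node t12 t44) (.node t28 t60)))) (.node (.node (.node (.node t2 t34) (.node t18 t50)) (.node (.node t10 t42) (.node t26 t58))) (.node (.node (.node t6 t38) (.node t22 t54)) (.node (.node t14 t46) (.node t30 t62))))) (.node (.node (.node (.node (.node t1 t33) (.node t17 t49)) (.node (.node t9 t41) (.node t25 t57))) (.node (.node (.node t5 t37) (.node t21 t53)) (.node (.node t13 t45) (.node t29 t61)))) (.node (.node (.node (.node t3 t35) (.node t19 t51)) (.node (.node t11 t43) (.node t27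 t59))) (.node (.node (.node t7 t39) (.node t23 t55)) (.node (.node t15 t47) (.node t31 t63))))))

noncomputable def row : ℕ → ℕ := rowOf tree (nat_lit 4) (nat_lit 15) (nat_lit 388) (nat_lit 0xfffffffffffffffffffffffffffffffffffffffffffffffffffffffffffffffffffffffffffffffffffffffffffffffff)

noncomputable def cols : List Col := [⟨nat_lit 31, nat_lit 1, [([nat_lit 31], nat_lit 0), ([nat_lit 279, nat_lit 31, nat_lit 279], nat_lit 0), ([nat_lit 310, nat_lit 31, nat_lit 310], nat_lit 0), ([nat_lit 124, nat_lit 31, nat_lit 124], nat_lit 0), ([nat_lit 155, nat_lit 31, nat_lit 155], nat_lit 0), ([nat_lit 93, nat_lit 31, nat_lit 93], nat_lit 0), ([nat_lit 186, nat_lit 31, nat_lit 186], nat_lit 0), ([nat_lit 217, nat_lit 31, nat_lit 217], nat_lit 0), ([nat_lit 248, nat_lit 31, nat_lit 248], nat_lit 0), ([nat_lit 62, nat_lit 31, nat_lit 62, nat_lit 31, nat_lit 62], nat_lit 0), ([nat_lit 62, nat_lit 93, nat_lit 124, nat_lit 155, nat_lit 186, nat_lit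 279, nat_lit 31, nat_lit 62, nat_lit 93, nat_lit 124, nat_lit 155, nat_lit 186, nat_lit 279, nat_lit 31, nat_lit 62, nat_lit 93, nat_lit 124, nat_lit 155, nat_lit 186, nat_lit 279, nat_lit 31, nat_lit 62, nat_lit 93, nat_lit 124, nat_lit 155, nat_lit 186, nat_lit 279, nat_lit 31, nat_lit 62, nat_lit 93, nat_lit 124, nat_lit 155, nat_lit 186, nat_lit 279, nat_lit 31, nat_lit 62, nat_lit 93, nat_lit 124, nat_lit 155, nat_lit 186, nat_lit 279, nat_lit 31, nat_lit 62, nat_lit 93, nat_lit 124, nat_lit 155, nat_lit 186, nat_lit 279, nat_lit 31, nat_lit 62, nat_lit 93, nat_lit 124, nat_lit 155, nat_lit 186, nat_lit 279, nat_lit 31, nat_lit 62, nat_lit 93, nat_lit 124, nat_lit 155, nat_lit 186, nat_lit 279], nat_lit 0)]⟩,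
  ⟨nat_lit 62, nat_lit 1, [([nat_lit 62], nat_lit 0), ([nat_lit 279, nat_lit 62, nat_lit 279], nat_lit 0), ([nat_lit 310, nat_lit 62, nat_lit 310], nat_lit 0), ([nat_lit 124, nat_lit 62, nat_lit 124], nat_lit 0), ([nat_lit 155, nat_lit 62, nat_lit 155], nat_lit 0), ([nat_lit 186, nat_lit 62, nat_lit 186], nat_lit 0), ([nat_lit 217, nat_lit 62, nat_lit 217], nat_lit 0), ([nat_lit 248, nat_lit 62, nat_lit 248], nat_lit 0), ([nat_lit 31, nat_lit 62, nat_lit 31, nat_lit 62, nat_lit 31], nat_lit 0), ([nat_lit 93, nat_lit 62, nat_lit 93, nat_lit 62, nat_lit 93], nat_lit 0), ([nat_lit 93, nat_lit 124, nat_lit 155, nat_lit 186, nat_lit 279, nat_lit 31, nat_lit 62, nat_lit 93, nat_lit 124, nat_lit 155, nat_lit 186, nat_lit 279, nat_lit 31, nat_lit 62, nat_lit 93, nat_lit 124, nat_lit 155, nat_lit 186, nat_lit 279, nat_lit 31, nat_lit 62, nat_lit 93, nat_lit 124, nat_lit 155, nat_lit 186, nat_lit 279, nat_lit 31, nat_lit 62, nat_lit 93, nat_lit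 124, nat_lit 155, nat_lit 186, nat_lit 279, nat_lit 31, nat_lit 62, nat_lit 93, nat_lit 124, nat_lit 155, nat_lit 186, nat_lit 279, nat_lit 31, nat_lit 62, nat_lit 93, nat_lit 124, nat_lit 155, nat_lit 186, nat_lit 279, nat_lit 31, nat_lit 62, nat_lit 93, nat_lit 124, nat_lit 155, nat_lit 186, nat_lit 279, nat_lit 31, nat_lit 62, nat_lit 93, nat_lit 124, nat_lit 155, nat_lit 186, nat_lit 279, nat_lit 31], nat_lit 0), ([nat_lit 124, nat_lit 155, nat_lit 186, nat_lit 124, nat_lit 279, nat_lit 310, nat_lit 124, nat_lit 93, nat_lit 62, nat_lit 124, nat_lit 155, nat_lit 186, nat_lit 124, nat_lit 279, nat_lit 310, nat_lit 124, nat_lit 93, nat_lit 62, nat_lit 124, nat_lit 155, nat_lit 186, nat_lit 124, nat_lit 279, nat_lit 310, nat_lit 124, nat_lit 93, nat_lit 62, nat_lit 124, nat_lit 155, nat_lit 186, nat_lit 124, nat_lit 279, nat_lit 310, nat_lit 124, nat_lit 93, nat_lit 62, nat_lit 124, nat_lit 155, nat_lit 186, nat_lit 124, nat_lit 279, nat_lit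 310, nat_lit 124, nat_lit 93, nat_lit 62, nat_lit 124, nat_lit 155, nat_lit 186, nat_lit 124, nat_lit 279, nat_lit 310, nat_lit 124, nat_lit 93, nat_lit 62, nat_lit 124, nat_lit 155, nat_lit 186, nat_lit 124, nat_lit 279, nat_lit 310, nat_lit 124, nat_lit 93, nat_lit 62, nat_lit 124, nat_lit 155, nat_lit 186, nat_lit 124, nat_lit 279, nat_lit 310, nat_lit 124, nat_lit 93, nat_lit 62, nat_lit 124, nat_lit 155, nat_lit 186, nat_lit 124, nat_lit 279, nat_lit 310, nat_lit 124, nat_lit 93, nat_lit 62, nat_lit 124, nat_lit 155, nat_lit 186, nat_lit 124, nat_lit 279, nat_lit 310, nat_lit 124, nat_lit 93], nat_lit 0)]⟩,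
  ⟨nat_lit 93, nat_lit 1, [([nat_lit 93], nat_lit 0), ([nat_lit 31, nat_lit 93, nat_lit 31], nat_lit 0), ([nat_lit 279, nat_lit 93, nat_lit 279], nat_lit 0), ([nat_lit 310, nat_lit 93, nat_lit 310], nat_lit 0), ([nat_lit 155, nat_lit 93, nat_lit 155], nat_lit 0), ([nat_lit 186, nat_lit 93, nat_lit 186], nat_lit 0), ([nat_lit 217, nat_lit 93, nat_lit 217], nat_lit 0), ([nat_lit 248, nat_lit 93, nat_lit 248], nat_lit 0), ([nat_lit 62, nat_lit 93, nat_lit 62, nat_lit 93, nat_lit 62], nat_lit 0), ([nat_lit 124, nat_lit 93, nat_lit 124, nat_lit 93, nat_lit 124], nat_lit 0), ([nat_lit 62, nat_lit 124, nat_lit 155, nat_lit 186, nat_lit 124, nat_lit 279, nat_lit 310, nat_lit 124, nat_lit 93, nat_lit 62, nat_lit 124, nat_lit 155, nat_lit 186, nat_lit 124, nat_lit 279, nat_lit 310, nat_lit 124, nat_lit 93, nat_lit 62, nat_lit 124, nat_lit 155, nat_lit 186, nat_lit 124, nat_lit 279, nat_lit 310, nat_lit 124, nat_lit 93, nat_lit 62, nat_lit 124, nat_lit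 155, nat_lit 186, nat_lit 124, nat_lit 279, nat_lit 310, nat_lit 124, nat_lit 93, nat_lit 62, nat_lit 124, nat_lit 155, nat_lit 186, nat_lit 124, nat_lit 279, nat_lit 310, nat_lit 124, nat_lit 93, nat_lit 62, nat_lit 124, nat_lit 155, nat_lit 186, nat_lit 124, nat_lit 279, nat_lit 310, nat_lit 124, nat_lit 93, nat_lit 62, nat_lit 124, nat_lit 155, nat_lit 186, nat_lit 124, nat_lit 279, nat_lit 310, nat_lit 124, nat_lit 93, nat_lit 62, nat_lit 124, nat_lit 155, nat_lit 186, nat_lit 124, nat_lit 279, nat_lit 310, nat_lit 124, nat_lit 93, nat_lit 62, nat_lit 124, nat_lit 155, nat_lit 186, nat_lit 124, nat_lit 279, nat_lit 310, nat_lit 124, nat_lit 93, nat_lit 62, nat_lit 124, nat_lit 155, nat_lit 186, nat_lit 124, nat_lit 279, nat_lit 310, nat_lit 124], nat_lit 0), ([nat_lit 124, nat_lit 155, nat_lit 186, nat_lit 279, nat_lit 31, nat_lit 62, nat_lit 93, nat_lit 124, nat_lit 155, nat_lit 186, nat_lit 279, nat_lit 31, nat_lit 62, nat_lit 93,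 nat_lit 124, nat_lit 155, nat_lit 186, nat_lit 279, nat_lit 31, nat_lit 62, nat_lit 93, nat_lit 124, nat_lit 155, nat_lit 186, nat_lit 279, nat_lit 31, nat_lit 62, nat_lit 93, nat_lit 124, nat_lit 155, nat_lit 186, nat_lit 279, nat_lit 31, nat_lit 62, nat_lit 93, nat_lit 124, nat_lit 155, nat_lit 186, nat_lit 279, nat_lit 31, nat_lit 62, nat_lit 93, nat_lit 124, nat_lit 155, nat_lit 186, nat_lit 279, nat_lit 31, nat_lit 62, nat_lit 93, nat_lit 124, nat_lit 155, nat_lit 186, nat_lit 279, nat_lit 31, nat_lit 62, nat_lit 93, nat_lit 124, nat_lit 155, nat_lit 186, nat_lit 279, nat_lit 31, nat_lit 62], nat_lit 0)]⟩,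
  ⟨nat_lit 124, nat_lit 1, [([nat_lit 124], nat_lit 0), ([nat_lit 31, nat_lit 124, nat_lit 31], nat_lit 0), ([nat_lit 62, nat_lit 124, nat_lit 62], nat_lit 0), ([nat_lit 310, nat_lit 124, nat_lit 310], nat_lit 0), ([nat_lit 186, nat_lit 124, nat_lit 186], nat_lit 0), ([nat_lit 217, nat_lit 124, nat_lit 217], nat_lit 0), ([nat_lit 248, nat_lit 124, nat_lit 248], nat_lit 0), ([nat_lit 93, nat_lit 124, nat_lit 93, nat_lit 124, nat_lit 93], nat_lit 0), ([nat_lit 155, nat_lit 124, nat_lit 155, nat_lit 124, nat_lit 155], nat_lit 0), ([nat_lit 279, nat_lit 124, nat_lit 279, nat_lit 124, nat_lit 279], nat_lit 0), ([nat_lit 279, nat_lit 310, nat_lit 124, nat_lit 93, nat_lit 62, nat_lit 124, nat_lit 155, nat_lit 186, nat_lit 124, nat_lit 279, nat_lit 310, nat_lit 124, nat_lit 93, nat_lit 62, nat_lit 124, nat_lit 155, nat_lit 186, nat_lit 124, nat_lit 279, nat_lit 310, nat_lit 124, nat_lit 93, nat_lit 62, nat_lit 124, nat_lit 155, nat_lit 186, nat_lit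 124, nat_lit 279, nat_lit 310, nat_lit 124, nat_lit 93, nat_lit 62, nat_lit 124, nat_lit 155, nat_lit 186, nat_lit 124, nat_lit 279, nat_lit 310, nat_lit 124, nat_lit 93, nat_lit 62, nat_lit 124, nat_lit 155, nat_lit 186, nat_lit 124, nat_lit 279, nat_lit 310, nat_lit 124, nat_lit 93, nat_lit 62, nat_lit 124, nat_lit 155, nat_lit 186, nat_lit 124, nat_lit 279, nat_lit 310, nat_lit 124, nat_lit 93, nat_lit 62, nat_lit 124, nat_lit 155, nat_lit 186, nat_lit 124, nat_lit 279, nat_lit 310, nat_lit 124, nat_lit 93, nat_lit 62, nat_lit 124, nat_lit 155, nat_lit 186, nat_lit 124, nat_lit 279, nat_lit 310, nat_lit 124, nat_lit 93, nat_lit 62, nat_lit 124, nat_lit 155, nat_lit 186, nat_lit 124, nat_lit 279, nat_lit 310, nat_lit 124, nat_lit 93, nat_lit 62, nat_lit 124, nat_lit 155, nat_lit 186], nat_lit 0), ([nat_lit 155, nat_lit 186, nat_lit 279, nat_lit 31, nat_lit 62, nat_lit 93, nat_lit 124, nat_lit 155, nat_lit 186, nat_lit 279, nat_lit 31,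 nat_lit 62, nat_lit 93, nat_lit 124, nat_lit 155, nat_lit 186, nat_lit 279, nat_lit 31, nat_lit 62, nat_lit 93, nat_lit 124, nat_lit 155, nat_lit 186, nat_lit 279, nat_lit 31, nat_lit 62, nat_lit 93, nat_lit 124, nat_lit 155, nat_lit 186, nat_lit 279, nat_lit 31, nat_lit 62, nat_lit 93, nat_lit 124, nat_lit 155, nat_lit 186, nat_lit 279, nat_lit 31, nat_lit 62, nat_lit 93, nat_lit 124, nat_lit 155, nat_lit 186, nat_lit 279, nat_lit 31, nat_lit 62, nat_lit 93, nat_lit 124, nat_lit 155, nat_lit 186, nat_lit 279, nat_lit 31, nat_lit 62, nat_lit 93, nat_lit 124, nat_lit 155, nat_lit 186, nat_lit 279, nat_lit 31, nat_lit 62, nat_lit 93], nat_lit 0), ([nat_lit 155, nat_lit 186, nat_lit 124, nat_lit 279, nat_lit 310, nat_lit 124, nat_lit 93, nat_lit 62, nat_lit 124, nat_lit 155, nat_lit 186, nat_lit 124, nat_lit 279, nat_lit 310, nat_lit 124, nat_lit 93, nat_lit 62, nat_lit 124, nat_lit 155, nat_lit 186, nat_lit 124, nat_lit 279, nat_lit 310,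 nat_lit 124, nat_lit 93, nat_lit 62, nat_lit 124, nat_lit 155, nat_lit 186, nat_lit 124, nat_lit 279, nat_lit 310, nat_lit 124, nat_lit 93, nat_lit 62, nat_lit 124, nat_lit 155, nat_lit 186, nat_lit 124, nat_lit 279, nat_lit 310, nat_lit 124, nat_lit 93, nat_lit 62, nat_lit 124, nat_lit 155, nat_lit 186, nat_lit 124, nat_lit 279, nat_lit 310, nat_lit 124, nat_lit 93, nat_lit 62, nat_lit 124, nat_lit 155, nat_lit 186, nat_lit 124, nat_lit 279, nat_lit 310, nat_lit 124, nat_lit 93, nat_lit 62, nat_lit 124, nat_lit 155, nat_lit 186, nat_lit 124, nat_lit 279, nat_lit 310, nat_lit 124, nat_lit 93, nat_lit 62, nat_lit 124, nat_lit 155, nat_lit 186, nat_lit 124, nat_lit 279, nat_lit 310, nat_lit 124, nat_lit 93, nat_lit 62, nat_lit 124, nat_lit 155, nat_lit 186, nat_lit 124, nat_lit 279, nat_lit 310, nat_lit 124, nat_lit 93, nat_lit 62], nat_lit 0), ([nat_lit 93, nat_lit 62, nat_lit 124, nat_lit 155, nat_lit 186, nat_lit 124, nat_lit 279, nat_lit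 310, nat_lit 124, nat_lit 93, nat_lit 62, nat_lit 124, nat_lit 155, nat_lit 186, nat_lit 124, nat_lit 279, nat_lit 310, nat_lit 124, nat_lit 93, nat_lit 62, nat_lit 124, nat_lit 155, nat_lit 186, nat_lit 124, nat_lit 279, nat_lit 310, nat_lit 124, nat_lit 93, nat_lit 62, nat_lit 124, nat_lit 155, nat_lit 186, nat_lit 124, nat_lit 279, nat_lit 310, nat_lit 124, nat_lit 93, nat_lit 62, nat_lit 124, nat_lit 155, nat_lit 186, nat_lit 124, nat_lit 279, nat_lit 310, nat_lit 124, nat_lit 93, nat_lit 62, nat_lit 124, nat_lit 155, nat_lit 186, nat_lit 124, nat_lit 279, nat_lit 310, nat_lit 124, nat_lit 93, nat_lit 62, nat_lit 124, nat_lit 155, nat_lit 186, nat_lit 124, nat_lit 279, nat_lit 310, nat_lit 124, nat_lit 93, nat_lit 62, nat_lit 124, nat_lit 155, nat_lit 186, nat_lit 124, nat_lit 279, nat_lit 310, nat_lit 124, nat_lit 93, nat_lit 62, nat_lit 124, nat_lit 155, nat_lit 186, nat_lit 124, nat_lit 279, nat_lit 310, nat_lit 124, nat_lit 93,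 nat_lit 62, nat_lit 124, nat_lit 155, nat_lit 186, nat_lit 124, nat_lit 279, nat_lit 310], nat_lit 0)]⟩,
  ⟨nat_lit 155, nat_lit 1, [([nat_lit 155], nat_lit 0), ([nat_lit 31, nat_lit 155, nat_lit 31], nat_lit 0), ([nat_lit 62, nat_lit 155, nat_lit 62], nat_lit 0), ([nat_lit 93, nat_lit 155, nat_lit 93], nat_lit 0), ([nat_lit 279, nat_lit 155, nat_lit 279], nat_lit 0), ([nat_lit 310, nat_lit 155, nat_lit 310], nat_lit 0), ([nat_lit 248, nat_lit 155, nat_lit 248], nat_lit 0), ([nat_lit 217, nat_lit 155, nat_lit 217], nat_lit 0), ([nat_lit 124, nat_lit 155, nat_lit 124, nat_lit 155, nat_lit 124], nat_lit 0), ([nat_lit 186, nat_lit 155, nat_lit 186, nat_lit 155, nat_lit 186], nat_lit 0), ([nat_lit 186, nat_lit 124, nat_lit 279, nat_lit 310, nat_lit 124, nat_lit 93, nat_lit 62, nat_lit 124, nat_lit 155, nat_lit 186, nat_lit 124, nat_lit 279, nat_lit 310, nat_lit 124, nat_lit 93, nat_lit 62, nat_lit 124, nat_lit 155, nat_lit 186, nat_lit 124,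 nat_lit 279, nat_lit 310, nat_lit 124, nat_lit 93, nat_lit 62, nat_lit 124, nat_lit 155, nat_lit 186, nat_lit 124, nat_lit 279, nat_lit 310, nat_lit 124, nat_lit 93, nat_lit 62, nat_lit 124, nat_lit 155, nat_lit 186, nat_lit 124, nat_lit 279, nat_lit 310, nat_lit 124, nat_lit 93, nat_lit 62, nat_lit 124, nat_lit 155, nat_lit 186, nat_lit 124, nat_lit 279, nat_lit 310, nat_lit 124, nat_lit 93, nat_lit 62, nat_lit 124, nat_lit 155, nat_lit 186, nat_lit 124, nat_lit 279, nat_lit 310, nat_lit 124, nat_lit 93, nat_lit 62, nat_lit 124, nat_lit 155, nat_lit 186, nat_lit 124, nat_lit 279, nat_lit 310, nat_lit 124, nat_lit 93, nat_lit 62, nat_lit 124, nat_lit 155, nat_lit 186, nat_lit 124, nat_lit 279, nat_lit 310, nat_lit 124, nat_lit 93, nat_lit 62, nat_lit 124, nat_lit 155, nat_lit 186, nat_lit 124, nat_lit 279, nat_lit 310, nat_lit 124, nat_lit 93, nat_lit 62, nat_lit 124], nat_lit 0), ([nat_lit 186, nat_lit 279, nat_lit 31, nat_lit 62, nat_lit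 93, nat_lit 124, nat_lit 155, nat_lit 186, nat_lit 279, nat_lit 31, nat_lit 62, nat_lit 93, nat_lit 124, nat_lit 155, nat_lit 186, nat_lit 279, nat_lit 31, nat_lit 62, nat_lit 93, nat_lit 124, nat_lit 155, nat_lit 186, nat_lit 279, nat_lit 31, nat_lit 62, nat_lit 93, nat_lit 124, nat_lit 155, nat_lit 186, nat_lit 279, nat_lit 31, nat_lit 62, nat_lit 93, nat_lit 124, nat_lit 155, nat_lit 186, nat_lit 279, nat_lit 31, nat_lit 62, nat_lit 93, nat_lit 124, nat_lit 155, nat_lit 186, nat_lit 279, nat_lit 31, nat_lit 62, nat_lit 93, nat_lit 124, nat_lit 155, nat_lit 186, nat_lit 279, nat_lit 31, nat_lit 62, nat_lit 93, nat_lit 124, nat_lit 155, nat_lit 186, nat_lit 279, nat_lit 31, nat_lit 62, nat_lit 93, nat_lit 124], nat_lit 0)]⟩,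
  ⟨nat_lit 186, nat_lit 1, [([nat_lit 186], nat_lit 0), ([nat_lit 62, nat_lit 186, nat_lit 62], nat_lit 0), ([nat_lit 31, nat_lit 186, nat_lit 31], nat_lit 0), ([nat_lit 93, nat_lit 186, nat_lit 93], nat_lit 0), ([nat_lit 124, nat_lit 186, nat_lit 124], nat_lit 0), ([nat_lit 279, nat_lit 186, nat_lit 279], nat_lit 0), ([nat_lit 310, nat_lit 186, nat_lit 310], nat_lit 0), ([nat_lit 248, nat_lit 186, nat_lit 248], nat_lit 0), ([nat_lit 155, nat_lit 186, nat_lit 155, nat_lit 186, nat_lit 155], nat_lit 0), ([nat_lit 217, nat_lit 186, nat_lit 217, nat_lit 186, nat_lit 217], nat_lit 0), ([nat_lit 124, nat_lit 279, nat_lit 310, nat_lit 124, nat_lit 93, nat_lit 62, nat_lit 124, nat_lit 155, nat_lit 186, nat_lit 124, nat_lit 279, nat_lit 310, nat_lit 124, nat_lit 93, nat_lit 62, nat_lit 124, nat_lit 155, nat_lit 186, nat_lit 124, nat_lit 279, nat_lit 310, nat_lit 124, nat_lit 93, nat_lit 62, nat_lit 124, nat_lit 155, nat_lit 186, nat_lit 124, nat_lit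 279, nat_lit 310, nat_lit 124, nat_lit 93, nat_lit 62, nat_lit 124, nat_lit 155, nat_lit 186, nat_lit 124, nat_lit 279, nat_lit 310, nat_lit 124, nat_lit 93, nat_lit 62, nat_lit 124, nat_lit 155, nat_lit 186, nat_lit 124, nat_lit 279, nat_lit 310, nat_lit 124, nat_lit 93, nat_lit 62, nat_lit 124, nat_lit 155, nat_lit 186, nat_lit 124, nat_lit 279, nat_lit 310, nat_lit 124, nat_lit 93, nat_lit 62, nat_lit 124, nat_lit 155, nat_lit 186, nat_lit 124, nat_lit 279, nat_lit 310, nat_lit 124, nat_lit 93, nat_lit 62, nat_lit 124, nat_lit 155, nat_lit 186, nat_lit 124, nat_lit 279, nat_lit 310, nat_lit 124, nat_lit 93, nat_lit 62, nat_lit 124, nat_lit 155, nat_lit 186, nat_lit 124, nat_lit 279, nat_lit 310, nat_lit 124, nat_lit 93, nat_lit 62, nat_lit 124, nat_lit 155], nat_lit 0), ([nat_lit 279, nat_lit 31, nat_lit 62, nat_lit 93, nat_lit 124, nat_lit 155, nat_lit 186, nat_lit 279, nat_lit 31, nat_lit 62, nat_lit 93, nat_lit 124, nat_lit 155,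 nat_lit 186, nat_lit 279, nat_lit 31, nat_lit 62, nat_lit 93, nat_lit 124, nat_lit 155, nat_lit 186, nat_lit 279, nat_lit 31, nat_lit 62, nat_lit 93, nat_lit 124, nat_lit 155, nat_lit 186, nat_lit 279, nat_lit 31, nat_lit 62, nat_lit 93, nat_lit 124, nat_lit 155, nat_lit 186, nat_lit 279, nat_lit 31, nat_lit 62, nat_lit 93, nat_lit 124, nat_lit 155, nat_lit 186, nat_lit 279, nat_lit 31, nat_lit 62, nat_lit 93, nat_lit 124, nat_lit 155, nat_lit 186, nat_lit 279, nat_lit 31, nat_lit 62, nat_lit 93, nat_lit 124, nat_lit 155, nat_lit 186, nat_lit 279, nat_lit 31, nat_lit 62, nat_lit 93, nat_lit 124, nat_lit 155], nat_lit 0)]⟩,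
  ⟨nat_lit 217, nat_lit 1, [([nat_lit 217], nat_lit 0), ([nat_lit 31, nat_lit 217, nat_lit 31], nat_lit 0), ([nat_lit 62, nat_lit 217, nat_lit 62], nat_lit 0), ([nat_lit 93, nat_lit 217, nat_lit 93], nat_lit 0), ([nat_lit 124, nat_lit 217, nat_lit 124], nat_lit 0), ([nat_lit 155, nat_lit 217, nat_lit 155], nat_lit 0), ([nat_lit 279, nat_lit 217, nat_lit 279], nat_lit 0), ([nat_lit 310, nat_lit 217, nat_lit 310], nat_lit 0), ([nat_lit 248, nat_lit 217, nat_lit 248, nat_lit 217, nat_lit 248], nat_lit 0), ([nat_lit 186, nat_lit 217, nat_lit 186, nat_lit 217, nat_lit 186], nat_lit 0)]⟩,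
  ⟨nat_lit 248, nat_lit 0, [([nat_lit 248], nat_lit 0), ([nat_lit 31, nat_lit 248, nat_lit 31], nat_lit 0), ([nat_lit 62, nat_lit 248, nat_lit 62], nat_lit 0), ([nat_lit 93, nat_lit 248, nat_lit 93], nat_lit 0), ([nat_lit 124, nat_lit 248, nat_lit 124], nat_lit 0), ([nat_lit 155, nat_lit 248, nat_lit 155], nat_lit 0), ([nat_lit 186, nat_lit 248, nat_lit 186], nat_lit 0), ([nat_lit 279, nat_lit 248, nat_lit 279], nat_lit 0), ([nat_lit 310, nat_lit 248, nat_lit 310], nat_lit 0), ([nat_lit 217, nat_lit 248, nat_lit 217, nat_lit 248, nat_lit 217], nat_lit 0)]⟩,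
  ⟨nat_lit 279, nat_lit 1, [([nat_lit 279], nat_lit 0), ([nat_lit 31, nat_lit 279, nat_lit 31], nat_lit 0), ([nat_lit 62, nat_lit 279, nat_lit 62], nat_lit 0), ([nat_lit 93, nat_lit 279, nat_lit 93], nat_lit 0), ([nat_lit 155, nat_lit 279, nat_lit 155], nat_lit 0), ([nat_lit 186, nat_lit 279, nat_lit 186], nat_lit 0), ([nat_lit 217, nat_lit 279, nat_lit 217], nat_lit 0), ([nat_lit 248, nat_lit 279, nat_lit 248], nat_lit 0), ([nat_lit 124, nat_lit 279, nat_lit 124, nat_lit 279, nat_lit 124], nat_lit 0), ([nat_lit 310, nat_lit 279, nat_lit 310, nat_lit 279, nat_lit 310], nat_lit 0), ([nat_lit 31, nat_lit 62, nat_lit 93, nat_lit 124, nat_lit 155, nat_lit 186, nat_lit 279, nat_lit 31, nat_lit 62, nat_lit 93, nat_lit 124, nat_lit 155, nat_lit 186, nat_lit 279, nat_lit 31, nat_lit 62, nat_lit 93, nat_lit 124, nat_lit 155, nat_lit 186, nat_lit 279, nat_lit 31, nat_lit 62, nat_lit 93, nat_lit 124, nat_lit 155, nat_lit 186, nat_lit 279, nat_lit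 31, nat_lit 62, nat_lit 93, nat_lit 124, nat_lit 155, nat_lit 186, nat_lit 279, nat_lit 31, nat_lit 62, nat_lit 93, nat_lit 124, nat_lit 155, nat_lit 186, nat_lit 279, nat_lit 31, nat_lit 62, nat_lit 93, nat_lit 124, nat_lit 155, nat_lit 186, nat_lit 279, nat_lit 31, nat_lit 62, nat_lit 93, nat_lit 124, nat_lit 155, nat_lit 186, nat_lit 279, nat_lit 31, nat_lit 62, nat_lit 93, nat_lit 124, nat_lit 155, nat_lit 186], nat_lit 0), ([nat_lit 310, nat_lit 124, nat_lit 93, nat_lit 62, nat_lit 124, nat_lit 155, nat_lit 186, nat_lit 124, nat_lit 279, nat_lit 310, nat_lit 124, nat_lit 93, nat_lit 62, nat_lit 124, nat_lit 155, nat_lit 186, nat_lit 124, nat_lit 279, nat_lit 310, nat_lit 124, nat_lit 93, nat_lit 62, nat_lit 124, nat_lit 155, nat_lit 186, nat_lit 124, nat_lit 279, nat_lit 310, nat_lit 124, nat_lit 93, nat_lit 62, nat_lit 124, nat_lit 155, nat_lit 186, nat_lit 124, nat_lit 279, nat_lit 310, nat_lit 124, nat_lit 93, nat_lit 62, nat_lit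 124, nat_lit 155, nat_lit 186, nat_lit 124, nat_lit 279, nat_lit 310, nat_lit 124, nat_lit 93, nat_lit 62, nat_lit 124, nat_lit 155, nat_lit 186, nat_lit 124, nat_lit 279, nat_lit 310, nat_lit 124, nat_lit 93, nat_lit 62, nat_lit 124, nat_lit 155, nat_lit 186, nat_lit 124, nat_lit 279, nat_lit 310, nat_lit 124, nat_lit 93, nat_lit 62, nat_lit 124, nat_lit 155, nat_lit 186, nat_lit 124, nat_lit 279, nat_lit 310, nat_lit 124, nat_lit 93, nat_lit 62, nat_lit 124, nat_lit 155, nat_lit 186, nat_lit 124, nat_lit 279, nat_lit 310, nat_lit 124, nat_lit 93, nat_lit 62, nat_lit 124, nat_lit 155, nat_lit 186, nat_lit 124], nat_lit 0)]⟩,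
  ⟨nat_lit 310, nat_lit 1, [([nat_lit 310], nat_lit 0), ([nat_lit 31, nat_lit 310, nat_lit 31], nat_lit 0), ([nat_lit 62, nat_lit 310, nat_lit 62], nat_lit 0), ([nat_lit 93, nat_lit 310, nat_lit 93], nat_lit 0), ([nat_lit 124, nat_lit 310, nat_lit 124], nat_lit 0), ([nat_lit 155, nat_lit 310, nat_lit 155], nat_lit 0), ([nat_lit 186, nat_lit 310, nat_lit 186], nat_lit 0), ([nat_lit 248, nat_lit 310, nat_lit 248], nat_lit 0), ([nat_lit 217, nat_lit 310, nat_lit 217], nat_lit 0), ([nat_lit 279, nat_lit 310, nat_lit 279, nat_lit 310, nat_lit 279], nat_lit 0), ([nat_lit 124, nat_lit 93, nat_lit 62, nat_lit 124, nat_lit 155, nat_lit 186, nat_lit 124, nat_lit 279, nat_lit 310, nat_lit 124, nat_lit 93, nat_lit 62, nat_lit 124, nat_lit 155, nat_lit 186, nat_lit 124, nat_lit 279, nat_lit 310, nat_lit 124, nat_lit 93, nat_lit 62, nat_lit 124, nat_lit 155, nat_lit 186, nat_lit 124, nat_lit 279, nat_lit 310, nat_lit 124, nat_lit 93, nat_lit 62, nat_lit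 124, nat_lit 155, nat_lit 186, nat_lit 124, nat_lit 279, nat_lit 310, nat_lit 124, nat_lit 93, nat_lit 62, nat_lit 124, nat_lit 155, nat_lit 186, nat_lit 124, nat_lit 279, nat_lit 310, nat_lit 124, nat_lit 93, nat_lit 62, nat_lit 124, nat_lit 155, nat_lit 186, nat_lit 124, nat_lit 279, nat_lit 310, nat_lit 124, nat_lit 93, nat_lit 62, nat_lit 124, nat_lit 155, nat_lit 186, nat_lit 124, nat_lit 279, nat_lit 310, nat_lit 124, nat_lit 93, nat_lit 62, nat_lit 124, nat_lit 155, nat_lit 186, nat_lit 124, nat_lit 279, nat_lit 310, nat_lit 124, nat_lit 93, nat_lit 62, nat_lit 124, nat_lit 155, nat_lit 186, nat_lit 124, nat_lit 279, nat_lit 310, nat_lit 124, nat_lit 93, nat_lit 62, nat_lit 124, nat_lit 155, nat_lit 186, nat_lit 124, nat_lit 279], nat_lit 0)]⟩]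

noncomputable def erots : List (List ℕ × ℕ) := [([nat_lit 310, nat_lit 310], nat_lit 0),
  ([nat_lit 279, nat_lit 279], nat_lit 0),
  ([nat_lit 124, nat_lit 124], nat_lit 0),
  ([nat_lit 155, nat_lit 155], nat_lit 0),
  ([nat_lit 217, nat_lit 217], nat_lit 0),
  ([nat_lit 248, nat_lit 248], nat_lit 0),
  ([nat_lit 186, nat_lit 186], nat_lit 0),
  ([nat_lit 93, nat_lit 93], nat_lit 0),
  ([nat_lit 62, nat_lit 62], nat_lit 0),
  ([nat_lit 31, nat_lit 31], nat_lit 0),
  ([nat_lit 124, nat_lit 93, nat_lit 124, nat_lit 93, nat_lit 124, nat_lit 93], nat_lit 0),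
  ([nat_lit 93, nat_lit 124, nat_lit 155, nat_lit 186, nat_lit 279, nat_lit 31, nat_lit 62, nat_lit 93, nat_lit 124, nat_lit 155, nat_lit 186, nat_lit 279, nat_lit 31, nat_lit 62, nat_lit 93, nat_lit 124, nat_lit 155, nat_lit 186, nat_lit 279, nat_lit 31, nat_lit 62, nat_lit 93, nat_lit 124, nat_lit 155, nat_lit 186, nat_lit 279, nat_lit 31, nat_lit 62, nat_lit 93, nat_lit 124, nat_lit 155, nat_lit 186, nat_lit 279, nat_lit 31, nat_lit 62, nat_lit 93, nat_lit 124, nat_lit 155, nat_lit 186, nat_lit 279, nat_lit 31, nat_lit 62, nat_lit 93, nat_lit 124, nat_lit 155, nat_lit 186, nat_lit 279, nat_lit 31, nat_lit 62, nat_lit 93, nat_lit 124, nat_lit 155, nat_lit 186, nat_lit 279, nat_lit 31, nat_lit 62, nat_lit 93, nat_lit 124, nat_lit 155, nat_lit 186, nat_lit 279, nat_lit 31, nat_lit 62], nat_lit 0),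
  ([nat_lit 155, nat_lit 186, nat_lit 124, nat_lit 279, nat_lit 310, nat_lit 124, nat_lit 93, nat_lit 62, nat_lit 124, nat_lit 155, nat_lit 186, nat_lit 124, nat_lit 279, nat_lit 310, nat_lit 124, nat_lit 93, nat_lit 62, nat_lit 124, nat_lit 155, nat_lit 186, nat_lit 124, nat_lit 279, nat_lit 310, nat_lit 124, nat_lit 93, nat_lit 62, nat_lit 124, nat_lit 155, nat_lit 186, nat_lit 124, nat_lit 279, nat_lit 310, nat_lit 124, nat_lit 93, nat_lit 62, nat_lit 124, nat_lit 155, nat_lit 186, nat_lit 124, nat_lit 279, nat_lit 310, nat_lit 124, nat_lit 93, nat_lit 62, nat_lit 124, nat_lit 155, nat_lit 186, nat_lit 124, nat_lit 279, nat_lit 310, nat_lit 124, nat_lit 93, nat_lit 62, nat_lit 124, nat_lit 155, nat_lit 186, nat_lit 124, nat_lit 279, nat_lit 310, nat_lit 124, nat_lit 93, nat_lit 62, nat_lit 124, nat_lit 155, nat_lit 186, nat_lit 124, nat_lit 279, nat_lit 310, nat_lit 124, nat_lit 93, nat_lit 62, nat_lit 124, nat_lit 155, nat_lit 186,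 nat_lit 124, nat_lit 279, nat_lit 310, nat_lit 124, nat_lit 93, nat_lit 62, nat_lit 124, nat_lit 155, nat_lit 186, nat_lit 124, nat_lit 279, nat_lit 310, nat_lit 124, nat_lit 93, nat_lit 62, nat_lit 124], nat_lit 0),
  ([nat_lit 124, nat_lit 155, nat_lit 186, nat_lit 279, nat_lit 31, nat_lit 62, nat_lit 93, nat_lit 124, nat_lit 155, nat_lit 186, nat_lit 279, nat_lit 31, nat_lit 62, nat_lit 93, nat_lit 124, nat_lit 155, nat_lit 186, nat_lit 279, nat_lit 31, nat_lit 62, nat_lit 93, nat_lit 124, nat_lit 155, nat_lit 186, nat_lit 279, nat_lit 31, nat_lit 62, nat_lit 93, nat_lit 124, nat_lit 155, nat_lit 186, nat_lit 279, nat_lit 31, nat_lit 62, nat_lit 93, nat_lit 124, nat_lit 155, nat_lit 186, nat_lit 279, nat_lit 31, nat_lit 62, nat_lit 93, nat_lit 124, nat_lit 155, nat_lit 186, nat_lit 279, nat_lit 31, nat_lit 62, nat_lit 93, nat_lit 124, nat_lit 155, nat_lit 186, nat_lit 279, nat_lit 31, nat_lit 62, nat_lit 93, nat_lit 124, nat_lit 155,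 nat_lit 186, nat_lit 279, nat_lit 31, nat_lit 62, nat_lit 93], nat_lit 0),
  ([nat_lit 186, nat_lit 155, nat_lit 186, nat_lit 155, nat_lit 186, nat_lit 155], nat_lit 0),
  ([nat_lit 186, nat_lit 279, nat_lit 31, nat_lit 62, nat_lit 93, nat_lit 124, nat_lit 155, nat_lit 186, nat_lit 279, nat_lit 31, nat_lit 62, nat_lit 93, nat_lit 124, nat_lit 155, nat_lit 186, nat_lit 279, nat_lit 31, nat_lit 62, nat_lit 93, nat_lit 124, nat_lit 155, nat_lit 186, nat_lit 279, nat_lit 31, nat_lit 62, nat_lit 93, nat_lit 124, nat_lit 155, nat_lit 186, nat_lit 279, nat_lit 31, nat_lit 62, nat_lit 93, nat_lit 124, nat_lit 155, nat_lit 186, nat_lit 279, nat_lit 31, nat_lit 62, nat_lit 93, nat_lit 124, nat_lit 155, nat_lit 186, nat_lit 279, nat_lit 31, nat_lit 62, nat_lit 93, nat_lit 124, nat_lit 155, nat_lit 186, nat_lit 279, nat_lit 31, nat_lit 62, nat_lit 93, nat_lit 124, nat_lit 155, nat_lit 186, nat_lit 279, nat_lit 31, nat_lit 62, nat_lit 93, nat_lit 124,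 nat_lit 155], nat_lit 0),
  ([nat_lit 31, nat_lit 62, nat_lit 93, nat_lit 124, nat_lit 155, nat_lit 186, nat_lit 279, nat_lit 31, nat_lit 62, nat_lit 93, nat_lit 124, nat_lit 155, nat_lit 186, nat_lit 279, nat_lit 31, nat_lit 62, nat_lit 93, nat_lit 124, nat_lit 155, nat_lit 186, nat_lit 279, nat_lit 31, nat_lit 62, nat_lit 93, nat_lit 124, nat_lit 155, nat_lit 186, nat_lit 279, nat_lit 31, nat_lit 62, nat_lit 93, nat_lit 124, nat_lit 155, nat_lit 186, nat_lit 279, nat_lit 31, nat_lit 62, nat_lit 93, nat_lit 124, nat_lit 155, nat_lit 186, nat_lit 279, nat_lit 31, nat_lit 62, nat_lit 93, nat_lit 124, nat_lit 155, nat_lit 186, nat_lit 279, nat_lit 31, nat_lit 62, nat_lit 93, nat_lit 124, nat_lit 155, nat_lit 186, nat_lit 279, nat_lit 31, nat_lit 62, nat_lit 93, nat_lit 124, nat_lit 155, nat_lit 186, nat_lit 279], nat_lit 0),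
  ([nat_lit 62, nat_lit 93, nat_lit 124, nat_lit 155, nat_lit 186, nat_lit 279, nat_lit 31, nat_lit 62, nat_lit 93, nat_lit 124, nat_lit 155, nat_lit 186, nat_lit 279, nat_lit 31, nat_lit 62, nat_lit 93, nat_lit 124, nat_lit 155, nat_lit 186, nat_lit 279, nat_lit 31, nat_lit 62, nat_lit 93, nat_lit 124, nat_lit 155, nat_lit 186, nat_lit 279, nat_lit 31, nat_lit 62, nat_lit 93, nat_lit 124, nat_lit 155, nat_lit 186, nat_lit 279, nat_lit 31, nat_lit 62, nat_lit 93, nat_lit 124, nat_lit 155, nat_lit 186, nat_lit 279, nat_lit 31, nat_lit 62, nat_lit 93, nat_lit 124, nat_lit 155, nat_lit 186, nat_lit 279, nat_lit 31, nat_lit 62, nat_lit 93, nat_lit 124, nat_lit 155, nat_lit 186, nat_lit 279, nat_lit 31, nat_lit 62, nat_lit 93, nat_lit 124, nat_lit 155, nat_lit 186, nat_lit 279, nat_lit 31], nat_lit 0),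
  ([nat_lit 93, nat_lit 124, nat_lit 93, nat_lit 124, nat_lit 93, nat_lit 124], nat_lit 0),
  ([nat_lit 155, nat_lit 124, nat_lit 155, nat_lit 124, nat_lit 155, nat_lit 124], nat_lit 0),
  ([nat_lit 186, nat_lit 93, nat_lit 186, nat_lit 93], nat_lit 0),
  ([nat_lit 186, nat_lit 124, nat_lit 279, nat_lit 310, nat_lit 124, nat_lit 93, nat_lit 62, nat_lit 124, nat_lit 155, nat_lit 186, nat_lit 124, nat_lit 279, nat_lit 310, nat_lit 124, nat_lit 93, nat_lit 62, nat_lit 124, nat_lit 155, nat_lit 186, nat_lit 124, nat_lit 279, nat_lit 310, nat_lit 124, nat_lit 93, nat_lit 62, nat_lit 124, nat_lit 155, nat_lit 186, nat_lit 124, nat_lit 279, nat_lit 310, nat_lit 124, nat_lit 93, nat_lit 62, nat_lit 124, nat_lit 155, nat_lit 186, nat_lit 124, nat_lit 279, nat_lit 310, nat_lit 124, nat_lit 93, nat_lit 62, nat_lit 124, nat_lit 155, nat_lit 186, nat_lit 124, nat_lit 279, nat_lit 310, nat_lit 124, nat_lit 93, nat_lit 62, nat_lit 124, nat_lit 155, nat_lit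 186, nat_lit 124, nat_lit 279, nat_lit 310, nat_lit 124, nat_lit 93, nat_lit 62, nat_lit 124, nat_lit 155, nat_lit 186, nat_lit 124, nat_lit 279, nat_lit 310, nat_lit 124, nat_lit 93, nat_lit 62, nat_lit 124, nat_lit 155, nat_lit 186, nat_lit 124, nat_lit 279, nat_lit 310, nat_lit 124, nat_lit 93, nat_lit 62, nat_lit 124, nat_lit 155, nat_lit 186, nat_lit 124, nat_lit 279, nat_lit 310, nat_lit 124, nat_lit 93, nat_lit 62, nat_lit 124, nat_lit 155], nat_lit 0),
  ([nat_lit 279, nat_lit 124, nat_lit 279, nat_lit 124, nat_lit 279, nat_lit 124], nat_lit 0),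
  ([nat_lit 279, nat_lit 310, nat_lit 124, nat_lit 93, nat_lit 62, nat_lit 124, nat_lit 155, nat_lit 186, nat_lit 124, nat_lit 279, nat_lit 310, nat_lit 124, nat_lit 93, nat_lit 62, nat_lit 124, nat_lit 155, nat_lit 186, nat_lit 124, nat_lit 279, nat_lit 310, nat_lit 124, nat_lit 93, nat_lit 62, nat_lit 124, nat_lit 155, nat_lit 186, nat_lit 124, nat_lit 279, nat_lit 310, nat_lit 124, nat_lit 93, nat_lit 62, nat_lit 124, nat_lit 155, nat_lit 186, nat_lit 124, nat_lit 279, nat_lit 310, nat_lit 124, nat_lit 93, nat_lit 62, nat_lit 124, nat_lit 155, nat_lit 186, nat_lit 124, nat_lit 279, nat_lit 310, nat_lit 124, nat_lit 93, nat_lit 62, nat_lit 124, nat_lit 155, nat_lit 186, nat_lit 124, nat_lit 279, nat_lit 310, nat_lit 124, nat_lit 93, nat_lit 62, nat_lit 124, nat_lit 155, nat_lit 186, nat_lit 124, nat_lit 279, nat_lit 310, nat_lit 124, nat_lit 93, nat_lit 62, nat_lit 124, nat_lit 155, nat_lit 186, nat_lit 124, nat_lit 279, nat_lit 310,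 nat_lit 124, nat_lit 93, nat_lit 62, nat_lit 124, nat_lit 155, nat_lit 186, nat_lit 124, nat_lit 279, nat_lit 310, nat_lit 124, nat_lit 93, nat_lit 62, nat_lit 124, nat_lit 155, nat_lit 186, nat_lit 124], nat_lit 0),
  ([nat_lit 31, nat_lit 124, nat_lit 31, nat_lit 124], nat_lit 0),
  ([nat_lit 31, nat_lit 155, nat_lit 31, nat_lit 155], nat_lit 0),
  ([nat_lit 31, nat_lit 217, nat_lit 31, nat_lit 217], nat_lit 0),
  ([nat_lit 62, nat_lit 124, nat_lit 62, nat_lit 124], nat_lit 0),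
  ([nat_lit 62, nat_lit 31, nat_lit 62, nat_lit 31, nat_lit 62, nat_lit 31], nat_lit 0),
  ([nat_lit 62, nat_lit 124, nat_lit 155, nat_lit 186, nat_lit 124, nat_lit 279, nat_lit 310, nat_lit 124, nat_lit 93, nat_lit 62, nat_lit 124, nat_lit 155, nat_lit 186, nat_lit 124, nat_lit 279, nat_lit 310, nat_lit 124, nat_lit 93, nat_lit 62, nat_lit 124, nat_lit 155, nat_lit 186, nat_lit 124, nat_lit 279, nat_lit 310, nat_lit 124, nat_lit 93, nat_lit 62, nat_lit 124, nat_lit 155, nat_lit 186, nat_lit 124, nat_lit 279, nat_lit 310, nat_lit 124, nat_lit 93, nat_lit 62, nat_lit 124, nat_lit 155, nat_lit 186, nat_lit 124, nat_lit 279, nat_lit 310, nat_lit 124, nat_lit 93, nat_lit 62, nat_lit 124, nat_lit 155, nat_lit 186, nat_lit 124, nat_lit 279, nat_lit 310, nat_lit 124, nat_lit 93, nat_lit 62, nat_lit 124, nat_lit 155, nat_lit 186, nat_lit 124, nat_lit 279, nat_lit 310, nat_lit 124, nat_lit 93, nat_lit 62, nat_lit 124, nat_lit 155, nat_lit 186,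 nat_lit 124, nat_lit 279, nat_lit 310, nat_lit 124, nat_lit 93, nat_lit 62, nat_lit 124, nat_lit 155, nat_lit 186, nat_lit 124, nat_lit 279, nat_lit 310, nat_lit 124, nat_lit 93, nat_lit 62, nat_lit 124, nat_lit 155, nat_lit 186, nat_lit 124, nat_lit 279, nat_lit 310, nat_lit 124, nat_lit 93], nat_lit 0),
  ([nat_lit 124, nat_lit 62, nat_lit 124, nat_lit 62], nat_lit 0),
  ([nat_lit 124, nat_lit 279, nat_lit 310, nat_lit 124, nat_lit 93, nat_lit 62, nat_lit 124, nat_lit 155, nat_lit 186, nat_lit 124, nat_lit 279, nat_lit 310, nat_lit 124, nat_lit 93, nat_lit 62, nat_lit 124, nat_lit 155, nat_lit 186, nat_lit 124, nat_lit 279, nat_lit 310, nat_lit 124, nat_lit 93, nat_lit 62, nat_lit 124, nat_lit 155, nat_lit 186, nat_lit 124, nat_lit 279, nat_lit 310, nat_lit 124, nat_lit 93, nat_lit 62, nat_lit 124, nat_lit 155, nat_lit 186, nat_lit 124, nat_lit 279, nat_lit 310, nat_lit 124, nat_lit 93, nat_lit 62, nat_lit 124, nat_lit 155, nat_lit 186,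 nat_lit 124, nat_lit 279, nat_lit 310, nat_lit 124, nat_lit 93, nat_lit 62, nat_lit 124, nat_lit 155, nat_lit 186, nat_lit 124, nat_lit 279, nat_lit 310, nat_lit 124, nat_lit 93, nat_lit 62, nat_lit 124, nat_lit 155, nat_lit 186, nat_lit 124, nat_lit 279, nat_lit 310, nat_lit 124, nat_lit 93, nat_lit 62, nat_lit 124, nat_lit 155, nat_lit 186, nat_lit 124, nat_lit 279, nat_lit 310, nat_lit 124, nat_lit 93, nat_lit 62, nat_lit 124, nat_lit 155, nat_lit 186, nat_lit 124, nat_lit 279, nat_lit 310, nat_lit 124, nat_lit 93, nat_lit 62, nat_lit 124, nat_lit 155, nat_lit 186], nat_lit 0),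
  ([nat_lit 155, nat_lit 186, nat_lit 155, nat_lit 186, nat_lit 155, nat_lit 186], nat_lit 0),
  ([nat_lit 155, nat_lit 186, nat_lit 279, nat_lit 31, nat_lit 62, nat_lit 93, nat_lit 124, nat_lit 155, nat_lit 186, nat_lit 279, nat_lit 31, nat_lit 62, nat_lit 93, nat_lit 124, nat_lit 155, nat_lit 186, nat_lit 279, nat_lit 31, nat_lit 62, nat_lit 93, nat_lit 124, nat_lit 155, nat_lit 186, nat_lit 279, nat_lit 31, nat_lit 62, nat_lit 93, nat_lit 124, nat_lit 155, nat_lit 186, nat_lit 279, nat_lit 31, nat_lit 62, nat_lit 93, nat_lit 124, nat_lit 155, nat_lit 186, nat_lit 279, nat_lit 31, nat_lit 62, nat_lit 93, nat_lit 124, nat_lit 155, nat_lit 186, nat_lit 279, nat_lit 31, nat_lit 62, nat_lit 93, nat_lit 124, nat_lit 155, nat_lit 186, nat_lit 279, nat_lit 31, nat_lit 62, nat_lit 93, nat_lit 124, nat_lit 155, nat_lit 186, nat_lit 279, nat_lit 31, nat_lit 62, nat_lit 93, nat_lit 124], nat_lit 0),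
  ([nat_lit 217, nat_lit 93, nat_lit 217, nat_lit 93], nat_lit 0),
  ([nat_lit 279, nat_lit 186, nat_lit 279, nat_lit 186], nat_lit 0),
  ([nat_lit 279, nat_lit 31, nat_lit 62, nat_lit 93, nat_lit 124, nat_lit 155, nat_lit 186, nat_lit 279, nat_lit 31, nat_lit 62, nat_lit 93, nat_lit 124, nat_lit 155, nat_lit 186, nat_lit 279, nat_lit 31, nat_lit 62, nat_lit 93, nat_lit 124, nat_lit 155, nat_lit 186, nat_lit 279, nat_lit 31, nat_lit 62, nat_lit 93, nat_lit 124, nat_lit 155, nat_lit 186, nat_lit 279, nat_lit 31, nat_lit 62, nat_lit 93, nat_lit 124, nat_lit 155, nat_lit 186, nat_lit 279, nat_lit 31, nat_lit 62, nat_lit 93, nat_lit 124, nat_lit 155, nat_lit 186, nat_lit 279, nat_lit 31, nat_lit 62, nat_lit 93, nat_lit 124, nat_lit 155, nat_lit 186, nat_lit 279, nat_lit 31, nat_lit 62, nat_lit 93, nat_lit 124, nat_lit 155, nat_lit 186, nat_lit 279, nat_lit 31, nat_lit 62, nat_lit 93, nat_lit 124, nat_lit 155, nat_lit 186], nat_lit 0)]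

noncomputable def gens : List ℕ := [nat_lit 31, nat_lit 62, nat_lit 93, nat_lit 124, nat_lit 155, nat_lit 186, nat_lit 217, nat_lit 248, nat_lit 279, nat_lit 310]

noncomputable def chk : ℕ → Bool := chkRow1 row (nat_lit 52741) (nat_lit 31671) (nat_lit 0xffff) (nat_lit 0xff0000) (nat_lit 24) (nat_lit 0x7f) (nat_lit 0) (nat_lit 0xffff) (nat_lit 16) (nat_lit 0x1ff) (nat_lit 0x7e000000) (nat_lit 341) (nat_lit 372) (nat_lit 3) [] cols erots gens

end Cfsg.Agent.L0.Fi23Tc1
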